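import Cfsg.Agent.H996.PQ.Val
import Cfsg.Agent.H439.CC.Mult
import Cfsg.Agent.Classification.TypeZIV.Parity

/-!
# The multiplicities of the constituents of `1_P^G` (helper594, S4879)

* `mu_one` : `⟨χ, 1_P^G⟩ = 1` for `HasVal`;
* `mu_zero` : if all constituents of `1_P^G` are given by `HasVal` (`m` of them for `m` double cosets), every other irreducible
  rational character has multiplicity `0`.
-/

set_option autoImplicit false
set_option linter.unusedSectionVars false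

namespace Cfsg.Agent.H594.LB.Mu

open Cfsg Cfsg.Agent.H967.Sph Cfsg.Agent.H996.PQ Cfsg.Agent.Characters
open Cfsg.Agent.H439.CC (mu)
open CoxeterSystem Cfsg.Agent.ChevalleyStructure.CoxeterGeom Cfsg.Agent.Tits.Roots Cfsg.Agent.Tits.Core
  Cfsg.Agent.Nodes.Reps Cfsg.Agent.Nodes.BNOf Cfsg.Agent.Nodes.Bruhat Cfsg.Agent.Nodes.LeviDec
open scoped BigOperators ComplexConjugate

universe u

section Abs

variable {Y : Type u} [Group Y] [Fintype Y]

/-- the sum over a coset -/
noncomputable def ff (P : Subgroup Y) (χ : Y → ℂ) (y : Y) : ℂ := ∑ᶠ q ∈ P, χ (y * q)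

theorem ff_one (P : Subgroup Y) (χ : Y → ℂ) : ff P χ 1 = Nat.card P * mu P χ := by
  classical
  have := Fintype.ofFinite P
  have h0 : (Nat.card P : ℂ) ≠ 0 := Nat.cast_ne_zero.2 Nat.card_pos.ne'
  rw [ff, mu, finsum_subgroup, finsum_eq_sum_of_fintype, mul_inv_cancel_left₀ h0]
  simp only [one_mul]

theorem inner_ff (P : Subgroup Y) {χ ψ : Y → ℂ} (hχ : IsIrrCharacter Y χ) (hψ : IsIrrCharacter Y ψ) :
    ∑ y, ff P χ y * conj (ψ y) = (∑ y, χ y * conj (ψ y)) / ψ 1 * (Nat.card P * mu P ψ) := by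
  classical
  have := Fintype.ofFinite P
  have h0 : (Nat.card P : ℂ) ≠ 0 := Nat.cast_ne_zero.2 Nat.card_pos.ne'
  have hcl := Core.isIrr_isClassFunction hχ
  have hcomm : ∀ a b, χ (a * b) = χ (b * a) := by
    intro a b
    rw [← hcl (b * a) a]
    congr 1
    group
  have h1 : ∀ y, ff P χ y * conj (ψ y) = ∑ q : P, χ (q * y) * conj (ψ y) := by
    intro y
    rw [ff, finsum_subgroup, Finset.sum_mul]
    exact Finset.sum_congr rfl fun q _ => by rw [hcomm]
  rw [Finset.sum_congr rfl fun y _ => h1 y, Finset.sum_comm]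
  have h2 : ∀ q : P, ∑ y, χ (q * y) * conj (ψ y) = (∑ y, χ y * conj (ψ y)) / ψ 1 * ψ q := fun q =>
    Cfsg.Agent.Classification.TypeZIV.Parity.sum_conv hcl hψ q
  rw [Finset.sum_congr rfl fun q _ => h2 q, ← Finset.mul_sum, mu, finsum_eq_sum_of_fintype, mul_inv_cancel_left₀ h0]

theorem sum_irr {χ ψ : Y → ℂ} (hχ : IsIrrCharacter Y χ) (hψ : IsIrrCharacter Y ψ) :
    ∑ y, χ y * conj (ψ y) = if χ = ψ then (Nat.card Y : ℂ) else 0 := by
  have h0 : (Nat.card Y : ℂ) ≠ 0 := Nat.cast_ne_zero.2 Nat.card_pos.ne'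
  have h1 := Core.classInner_irr hχ hψ
  rw [Core.classInner_def] at h1
  split_ifs at h1 ⊢ with h
  · rwa [inv_mul_eq_one₀ h0, eq_comm] at h1
  · exact (mul_eq_zero.1 h1).resolve_left (inv_ne_zero h0)

end Abs

variable {I W : Type*} {Y : Type u} [Fintype I] [DecidableEq I] [Group W] [Finite W] [Group Y] [Finite Y]
    {M : CoxeterMatrix I} {cs : CoxeterSystem M W} {A : I → I → ℤ} {h : IsCartan M A} {p : ℕ} {T : Subgroup Y}
    {n : I → Y} {X : (I → ℤ) → Subgroup Y} (R : RGD cs h p T n X) (hG : GG cs h T X = ⊤)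
    {j : I} {N m : ℕ} (t : Tab A j N m)

theorem cls_one : t.cls (stY R hG t 1) = t.cls t.o := by
  rw [(stY_eq_o_iff R hG t).2 (one_mem _)]

/-- the value at the base point -/
theorem HasVal.base {χ : Y → ℂ} {d : ℕ} {a : Fin m → ℚ} (H : HasVal R hG t χ d a) : a (t.cls t.o) = 1 := by
  classical
  have := Fintype.ofFinite Y
  have h0 : (Nat.card Y : ℂ) ≠ 0 := Nat.cast_ne_zero.2 Nat.card_pos.ne'
  have h1 := H.val 1
  have h2 : ∀ y : Y, a (t.cls (stY R hG t (y⁻¹ * 1 * y))) = a (t.cls t.o) := by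
    intro y
    rw [mul_one, inv_mul_cancel, cls_one]
  rw [finsum_eq_sum_of_fintype, Finset.sum_congr rfl fun y _ => h2 y, Finset.sum_const, Finset.card_univ,
    ← Nat.card_eq_fintype_card, nsmul_eq_mul, H.one] at h1
  push_cast at h1
  have h3 : (d : ℂ) ≠ 0 := by
    rw [← H.one]
    exact Core.isIrr_apply_one_ne_zero H.irr
  have h4 : ((a (t.cls t.o) : ℚ) : ℂ) = 1 := by
    have h5 : (Nat.card Y : ℂ) * d * ((a (t.cls t.o) : ℚ) : ℂ) = (Nat.card Y : ℂ) * d * 1 := by
      rw [mul_one]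
      linear_combination -h1
    exact mul_left_cancel₀ (mul_ne_zero h0 h3) h5
  exact_mod_cast h4

theorem HasVal.ff {χ : Y → ℂ} {d : ℕ} {a : Fin m → ℚ} (H : HasVal R hG t χ d a) [Fintype Y] (y : Y) :
    ff (PJ cs h T X {i | i ≠ j}) χ y = Nat.card (PJ cs h T X {i | i ≠ j}) * ((a (t.cls (stY R hG t y)) : ℚ) : ℂ) :=
  H.coset y

/-- **`⟨χ, 1_P^G⟩ = 1`** -/
theorem mu_one {χ : Y → ℂ} {d : ℕ} {a : Fin m → ℚ} (H : HasVal R hG t χ d a) :
    mu (PJ cs h T X {i | i ≠ j}) χ = 1 := by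
  classical
  have := Fintype.ofFinite Y
  have h0 : (Nat.card (PJ cs h T X {i | i ≠ j}) : ℂ) ≠ 0 := Nat.cast_ne_zero.2 Nat.card_pos.ne'
  have h1 := ff_one (PJ cs h T X {i | i ≠ j}) χ
  rw [HasVal.ff R hG t H, cls_one, HasVal.base R hG t H] at h1
  push_cast at h1
  exact (mul_left_cancel₀ h0 h1).symm

/-- the values are rational -/
theorem HasVal.rat {χ : Y → ℂ} {d : ℕ} {a : Fin m → ℚ} (H : HasVal R hG t χ d a) :
    ∃ F : Y → ℚ, ∀ g, χ g = F g := by
  have h0 : (Nat.card Y : ℂ) ≠ 0 := Nat.cast_ne_zero.2 Nat.card_pos.ne'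
  refine ⟨fun g => d * (∑ᶠ y : Y, a (t.cls (stY R hG t (y⁻¹ * g * y)))) / Nat.card Y, fun g => ?_⟩
  push_cast
  rw [eq_div_iff h0, mul_comm, H.val g]

/-- **The other characters have multiplicity `0`.** -/
theorem mu_zero {χs : Fin m → Y → ℂ} {d : Fin m → ℕ} {as : Fin m → Fin m → ℚ}
    (H : ∀ i, HasVal R hG t (χs i) (d i) (as i)) (hinj : Function.Injective χs) {χ : Y → ℂ}
    (hχ : IsIrrCharacter Y χ) {F : Y → ℚ} (hF : ∀ g, χ g = F g) (hne : ∀ i, χs i ≠ χ) :
    mu (PJ cs h T X {i | i ≠ j}) χ = 0 := by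
  classical
  have := Fintype.ofFinite Y
  set P := PJ cs h T X {i | i ≠ j} with hP
  have := Fintype.ofFinite P
  have h0 : (Nat.card P : ℂ) ≠ 0 := Nat.cast_ne_zero.2 Nat.card_pos.ne'
  have hY0 : (Nat.card Y : ℂ) ≠ 0 := Nat.cast_ne_zero.2 Nat.card_pos.ne'
  have hcl := Core.isIrr_isClassFunction hχ
  have hcomm : ∀ a b, F (a * b) = F (b * a) := by
    intro a b
    have h1 := hcl (b * a) a
    rw [hF, hF] at h1
    have h2 : F (a * (b * a) * a⁻¹) = F (b * a) := by exact_mod_cast h1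
    rw [← h2]
    congr 1
    group
  -- the bi-invariant function
  obtain ⟨k, hk⟩ := exists_fun R hG t (fun y => ∑ q : P, F (y * q))
    (by
      intro y hy g
      refine Fintype.sum_equiv (Equiv.mulRight (⟨y, hy⟩ : P)) _ _ fun q => ?_
      rw [Equiv.coe_mulRight, Subgroup.coe_mul, mul_assoc, hcomm y, ← mul_assoc])
    (by
      intro y hy g
      refine Fintype.sum_equiv (Equiv.mulLeft (⟨y, hy⟩ : P)) _ _ fun q => ?_
      rw [Equiv.coe_mulLeft, Subgroup.coe_mul, mul_assoc])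
  have hk' : ∀ y, ff P χ y = ((k (t.cls (stY R hG t y)) : ℚ) : ℂ) := by
    intro y
    rw [← hk, ff, finsum_subgroup]
    push_cast
    exact Finset.sum_congr rfl fun q _ => hF _
  -- a relation
  obtain ⟨v, hv⟩ : ∃ v : Option (Fin m) → Fin m → ℚ, v = fun o => o.elim k as := ⟨_, rfl⟩
  have hdep : ¬ LinearIndependent ℚ v := by
    intro hl
    have h1 := hl.fintype_card_le_finrank
    rw [Module.finrank_fin_fun, Fintype.card_option, Fintype.card_fin] at h1
    omega
  obtain ⟨c, hc, o, ho⟩ := Fintype.not_linearIndependent_iff.1 hdep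
  have hrel : ∀ y, (c none : ℂ) * ff P χ y + ∑ i, ((c (some i) : ℚ) : ℂ) / Nat.card P * ff P (χs i) y = 0 := by
    intro y
    have h1 := congrFun hc (t.cls (stY R hG t y))
    rw [Fintype.sum_option, hv] at h1
    simp only [Option.elim, Pi.add_apply, Pi.smul_apply, smul_eq_mul, Finset.sum_apply, Pi.zero_apply] at h1
    have h2 : ∀ i, ((c (some i) : ℚ) : ℂ) / Nat.card P * ff P (χs i) y =
        ((c (some i) * as i (t.cls (stY R hG t y)) : ℚ) : ℂ) := by
      intro i
      have h3 : ff P (χs i) y = Nat.card P * ((as i (t.cls (stY R hG t y)) : ℚ) : ℂ) := HasVal.ff R hG t (H i) y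
      rw [h3]
      push_cast
      field_simp
    rw [hk', Finset.sum_congr rfl fun i _ => h2 i]
    exact_mod_cast h1
  have hmu1 : ∀ i, mu P (χs i) = 1 := fun i => mu_one R hG t (H i)
  have hci : ∀ i, c (some i) = 0 := by
    intro i
    have h1 : ∑ y, ((c none : ℂ) * ff P χ y + ∑ i, ((c (some i) : ℚ) : ℂ) / Nat.card P * ff P (χs i) y) *
        conj (χs i y) = 0 := by
      refine Finset.sum_eq_zero fun y _ => ?_
      rw [hrel, zero_mul]
    simp only [add_mul, Finset.sum_add_distrib, Finset.sum_mul, mul_assoc] at h1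
    rw [← Finset.mul_sum, inner_ff P hχ (H i).irr, sum_irr hχ (H i).irr, if_neg (hne i).symm, zero_div, zero_mul,
      mul_zero, zero_add, Finset.sum_comm] at h1
    have h2 : ∀ k, ∑ y, ((c (some k) : ℚ) : ℂ) / Nat.card P * (ff P (χs k) y * conj (χs i y)) =
        if k = i then ((c (some i) : ℚ) : ℂ) / Nat.card P * (Nat.card Y / χs i 1 * (Nat.card P * 1)) else 0 := by
      intro k
      rw [← Finset.mul_sum, inner_ff P (H k).irr (H i).irr, sum_irr (H k).irr (H i).irr, hmu1]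
      split_ifs with h3 h4 h4
      · rw [h4]
      · exact absurd (hinj h3) h4
      · exact absurd (congrArg χs h4) h3
      · ring
    rw [Finset.sum_congr rfl fun k _ => h2 k, Finset.sum_ite_eq' Finset.univ i, if_pos (Finset.mem_univ i)] at h1
    have h3 : χs i 1 ≠ 0 := Core.isIrr_apply_one_ne_zero (H i).irr
    have h4 : (Nat.card Y / χs i 1 * (Nat.card P * 1) : ℂ) ≠ 0 :=
      mul_ne_zero (div_ne_zero hY0 h3) (mul_ne_zero h0 one_ne_zero)
    have h5 := (mul_eq_zero.1 h1).resolve_right h4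
    have h6 := (div_eq_zero_iff.1 h5).resolve_right h0
    exact_mod_cast h6
  have hcn : c none ≠ 0 := by
    intro h1
    apply ho
    cases o with
    | none => exact h1
    | some i => exact hci i
  have h1 := hrel 1
  rw [Finset.sum_eq_zero (fun i _ => by rw [hci]; simp), add_zero, ff_one] at h1
  have h2 : ((c none : ℚ) : ℂ) ≠ 0 := by exact_mod_cast hcn
  exact (mul_eq_zero.1 ((mul_eq_zero.1 h1).resolve_left h2)).resolve_left h0

end Cfsg.Agent.H594.LB.Mu
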