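import Cfsg.Agent.H996.PQ.LinkE8

/-!
# `E₈`: eigenvalues and their congruences modulo `Φ₅` and `Φ₁₀` (helper594, S4879; made by a program)

Node `7` (5 classes): `lamA 1` = `8`, `lamA 3` = `84`. Node `6` (26 classes): `lam11` = `1400`, `lam12` = `1344`, `lam13` = `448`;
`LinkE8.lam` = `567`.
-/

set_option autoImplicit false
set_option maxRecDepth 20000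

namespace Cfsg.Agent.H594.LB.LamTab

open Cfsg.Agent.H967.Sph Cfsg.Agent.H64.Dl.Sph Cfsg.Agent.H996.Eight Cfsg.Agent.H996.Eight.Cert Cfsg.Agent.H996.PQ

/-- the eigenvalues of `8` at node `7` -/
def lam7_8 (c : Fin 5) : List ℤ := ([[1], [-1, 0, 0, 0, 0, 0, 1, 1, 1, 1, 2, 2, 2, 2, 3, 2, 2, 2, 2, 2, 1, 1, 1, 1], [0, 0, 0, 0, 0, 0, -1, -1, -1, -1, -2, -2, -2, -2, -3, -2, -2, -2, -2, -1, 0, 0, 0, 1, 2, 2, 2, 2, 3, 2, 2, 2, 2, 1, 1, 1, 1], [0, 0, 0, 0, 0, 0, 0, 0, 0, 0, 0, 0, 0, 0, 0, 0, 0, 0, 0, -1, -1, -1, -1, -2, -2, -2, -2, -2, -3, -2, -2, -2, -2, -1, -1, -1, -1, 0, 0, 0, 0, 0, 1], [0, 0, 0, 0, 0, 0, 0, 0, 0, 0, 0, 0, 0, 0, 0, 0, 0, 0, 0, 0, 0, 0, 0, 0, 0, 0, 0, 0, 0, 0, 0, 0, 0, 0, 0, 0,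 0, 0, 0, 0, 0, 0, -1]] : List (List ℤ)).getD c []

/-- the eigenvalues of `84` at node `7` -/
def lam7_84 (c : Fin 5) : List ℤ := ([[1], [-1, 0, 0, 0, 0, -1, 0, 0, 0, -1, 0, 0, 0, 0, -1], [0, 0, 0, 0, 0, 1, 0, 0, 0, 1, 0, 0, 0, 1, 1, 0, 0, 0, 1, 0, 0, 0, 1], [0, 0, 0, 0, 0, 0, 0, 0, 0, 0, 0, 0, 0, -1, 0, 0, 0, 0, -1, 0, 0, 0, -1, 0, 0, 0, 0, -1], [0, 0, 0, 0, 0, 0, 0, 0, 0, 0, 0, 0, 0, 0, 0, 0, 0, 0, 0, 0, 0, 0, 0, 0, 0, 0, 0, 1]] : List (List ℤ)).getD c []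

/-- quotients -/
def r8 (c : Fin 5) : List ℤ := ([[], [-1, -2, -2, -2, -2, -1, 0, 0, 0, 0, -1, -2, -2, -2, -1, 0, 0, 0, 0, -1, -2, -2, -2, -2, -1], [0, 0, 0, 0, 0, 0, -1, -2, -2, -2, -3, -3, -3, -4, -5, -4, -4, -5, -5, -4, -4, -4, -4, -4, -4, -4, -4, -4, -4, -5, -5, -4, -4, -5, -4, -3, -3, -3, -2, -2, -2, -1], [0, 0, 0, 0, 0, 0, 0, 0, 0, 0, 0, 0, 0, 0, 0, 0, 0, 0, 0, -1, -2, -2, -2, -3, -3, -2, -2, -2, -2, -3, -4, -4, -4, -3, -2, -2, -2, -1, -2, -4, -4, -4, -4, -3, -2, -2, -2, -2, -2, -2, -2, -2, -1], [0, 0, 0, 0, 0, 0, 0, 0, 0, 0, 0, 0, 0, 0, 0, 0, 0, 0, 0, 0, 0, 0, 0, 0, 0, 0, 0, 0, 0, 0, 0, 0, 0, 0, 0, 0, 0, 0, 0, 0, 0, 0, -1, -1, 0, 0, 0, 1, 1, 0, 0, 0, -1, -1]] : List (List ℤ)).getD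 c []

/-- quotients -/
def r84 (c : Fin 5) : List ℤ := ([[], [-1, -2, -2, -2, -2, -2, -2, -2, -2, -3, -4, -4, -4, -4, -4, -3, -2, -2, -2, -2, -2, -2, -2, -2, -1], [0, 0, 0, 0, 0, 1, 1, 0, 0, 1, 0, -1, -1, -1, -1, -1, -2, -3, -3, -4, -6, -6, -5, -6, -7, -6, -6, -7, -7, -7, -7, -6, -5, -5, -4, -3, -3, -3, -2, -2, -2, -1], [0, 0, 0, 0, 0, 0, 0, 0, 0, 0, 0, 0, 0, -1, -1, 0, 0, 0, 0, 0, 0, 0, -1, -1, 0, 0, 0, 0, 0, -1, -2, -2, -2, -2, -2, -2, -2, -2, -3, -4, -4, -4, -4, -3, -2, -2, -2, -2, -2, -2, -2, -2, -1], [0, 0, 0, 0, 0, 0, 0, 0, 0, 0, 0, 0, 0, 0, 0, 0, 0, 0, 0, 0, 0, 0, 0, 0, 0, 0, 0, 1, 1, 0, 0, 0, -1, -1, 0, 0, 0, 1, 1, 0, 0, 0, -1, -1, 0, 0, 0, 1, 1, 0, 0, 0, -1, -1]] : List (List ℤ)).getD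 c []

/-- quotients -/
def s84 (c : Fin 5) : List ℤ := ([[], [-1, 0, 0, 0, 0, -2, 0, 0, 0, -1, -2, 0, 0, 0, -2, -1, 0, 0, 0, -2, 0, 0, 0, 0, -1], [0, 0, 0, 0, 0, 1, -1, 0, 0, 1, 0, -1, -1, 1, 1, -1, -2, -1, 1, 0, -2, -2, -1, 0, -1, -2, -2, -1, -1, -1, -1, -2, -1, -1, 0, -1, -1, -1, 0, 0, 0, -1], [0, 0, 0, 0, 0, 0, 0, 0, 0, 0, 0, 0, 0, -1, 1, 0, 0, 0, -2, 2, 0, 0, -1, -1, 2, 0, 0, -2, 0, 1, 0, 0, -2, 0, 0, 0, 0, -2, -1, 0, 0, 0, -2, -1, 0, 0, 0, -2, 0, 0, 0, 0, -1], [0, 0, 0, 0, 0, 0, 0, 0, 0, 0, 0, 0, 0, 0, 0, 0, 0, 0, 0, 0, 0, 0, 0, 0, 0, 0, 0, 1, -1, 0, 0, 0, 1, -1, 0, 0, 0, 1, -1, 0, 0, 0, 1, -1, 0, 0, 0, 1, -1, 0, 0, 0, 1, -1]] : List (List ℤ)).getD c []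

theorem lam7_8_ok : ∀ c, pEq (pMul (lam7_8 c) (TabE8a.c1.nu 0)) (pMul (TabE8a.data.kk c) (TabE8a.c1.nu c)) = true := by
  decide +kernel

theorem lam7_84_ok : ∀ c, pEq (pMul (lam7_84 c) (TabE8a.c3.nu 0)) (pMul (TabE8a.data.kk c) (TabE8a.c3.nu c)) = true := by
  decide +kernel

/-- `1 ~ 8` modulo `Φ₁₀` -/
theorem c8 : ∀ c, pEq (lam7_8 c) (pAdd (TabE8a.data.kk c) (pMul [1, -1, 1, -1, 1] (r8 c))) = true := by decide +kernel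

/-- `1 ~ 84` modulo `Φ₁₀` -/
theorem c84 : ∀ c, pEq (lam7_84 c) (pAdd (TabE8a.data.kk c) (pMul [1, -1, 1, -1, 1] (r84 c))) = true := by decide +kernel

/-- `1 ~ 84` modulo `Φ₅` -/
theorem d84 : ∀ c, pEq (lam7_84 c) (pAdd (TabE8a.data.kk c) (pMul [1, 1, 1, 1, 1] (s84 c))) = true := by decide +kernel

/-- the eigenvalues of `1400` at node `6` -/
def lam11 (c : Fin 26) : List ℤ := ([[1], [-1, -1, 0, 0, -1, -1, 0, 0, -1, 2], [0, 1, 0, 0, 1, 1, 0, 0, 1, -2, 0, 0, -2], [0, 0, 0, 0, 1, 1, 0, 0, 1, -2, 0, 0, 1, -2], [0, 0, 0, 0, -1, -1, 0, 0, -1, 3, 1, 0, 2, 6, -2, 0, 0, -2, 1], [0, 0, 0, 0, 0, 0, 0, 0, 0, -1, -1, 0, -1, -2, 2, 0, -1, 4, -1, 0, 2, -1], [0, 0, 0, 0, 0, 0, 0, 0, 0, -1, -1, 0, -1,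 -2, 2, 0, -1, 4, -1, 0, 2, -1], [0, 0, 0, 0, 0, 0, 0, 0, 0, 0, -1, 0, 0, -3, 2, 0, 0, 0, -1], [0, 0, 0, 0, 0, 0, 0, 0, 0, 1, 2, 1, 1, 3, -3, -2, 1, -6, 0, 1, -2, 2, 1], [0, 0, 0, 0, 0, 0, 0, 0, 0, 0, 0, 0, -1, 2], [0, 0, 0, 0, 0, 0, 0, 0, 0, 0, 0, -1, 0, 0, -1, 2, 1, 0, 2, 0, -2, 0, -1, -2, 1, 0, 0, 1], [0, 0, 0, 0, 0, 0, 0, 0, 0, 0, 0, 0, 1, -2, 0, 0, 1, -2, 0, 0, -2, 1], [0, 0, 0, 0, 0, 0, 0, 0, 0, 0, 0, 0, 1, -2, 0, 0, 1, -2, 0, 0, -2, 1], [0, 0, 0, 0, 0, 0, 0, 0, 0, 0, 0, 0, -1, 2, 0, 0, -1, 6, -2, 0, 2, -6, 1, 0, 0, -2, 1], [0, 0, 0, 0, 0, 0, 0, 0, 0, 0, 0, 0, 0, 0, 0, 0, -1, -2, 2, -1, 0, 6, -1, 2, 3, -3, -1, -1, -2, -1], [0, 0, 0, 0, 0, 0, 0, 0, 0, 0, 0, 0, 0, 0, 0, 0, 0, -1, 2, 0,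 0, 2, -1, 0, 0, 2, -1], [0, 0, 0, 0, 0, 0, 0, 0, 0, 0, 0, 0, 0, 0, 0, 0, 0, -1, 2, 0, 0, 2, -1, 0, 0, 2, -1], [0, 0, 0, 0, 0, 0, 0, 0, 0, 0, 0, 0, 0, 0, 0, 0, 0, 1, -2, 0, 1, -4, 1, 0, -2, 2, 1, 0, 1, 1], [0, 0, 0, 0, 0, 0, 0, 0, 0, 0, 0, 0, 0, 0, 0, 0, 0, 1, -2, 0, 1, -4, 1, 0, -2, 2, 1, 0, 1, 1], [0, 0, 0, 0, 0, 0, 0, 0, 0, 0, 0, 0, 0, 0, 0, 0, 0, 0, 0, 0, 1, 0, 0, 0, -2, 3, 0, 0, 1], [0, 0, 0, 0, 0, 0, 0, 0, 0, 0, 0, 0, 0, 0, 0, 0, 0, 0, 0, 0, -1, 2, 0, 0, 2, -6, -2, 0, -1, -3, 1, 0, 0, 1, 1], [0, 0, 0, 0, 0, 0, 0, 0, 0, 0, 0, 0, 0, 0, 0, 0, 0, 0, 0, 0, 0, 0, 0, 0, 0, 0, 2, 0, 0, 2, -1, 0, 0, -1, -1, 0, 0, -1], [0, 0, 0, 0, 0, 0, 0, 0, 0, 0, 0, 0, 0, 0, 0, 0, 0, 0, 0, 0, 0, 0, 0, 0, 0,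 -2, 1], [0, 0, 0, 0, 0, 0, 0, 0, 0, 0, 0, 0, 0, 0, 0, 0, 0, 0, 0, 0, 0, 0, 0, 0, 0, 2, -1, 0, 0, 2, -1, 0, 0, -1, -1], [0, 0, 0, 0, 0, 0, 0, 0, 0, 0, 0, 0, 0, 0, 0, 0, 0, 0, 0, 0, 0, 0, 0, 0, 0, 0, 0, 0, 0, -2, 1, 0, 0, 1, 1, 0, 0, 1, 1], [0, 0, 0, 0, 0, 0, 0, 0, 0, 0, 0, 0, 0, 0, 0, 0, 0, 0, 0, 0, 0, 0, 0, 0, 0, 0, 0, 0, 0, 0, 0, 0, 0, 0, 0, 0, 0, 0, -1]] : List (List ℤ)).getD c []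

/-- the eigenvalues of `1344` at node `6` -/
def lam12 (c : Fin 26) : List ℤ := ([[1], [-1, -1, 0, 0, -1, -1, 0, 0, -1], [0, 1, 0, 0, 1, 1, 0, 0, 1], [0, 0, 0, 0, 1, 1, 0, 0, 1, 0, 0, 0, 1], [0, 0, 0, 0, -1, -1, 0, 0, -1, 1, 1, 0, 0, 2, 0, 0, 0, 0, -1], [0, 0, 0, 0, 0, 0, 0, 0, 0, -1, -1, 0, -1, -2, 0, 0, -1, 0, 1, 0, 0, 1], [0, 0, 0, 0, 0, 0, 0, 0, 0, -1, -1, 0, -1, -2, 0, 0, -1, 0, 1, 0, 0, 1], [0, 0, 0, 0, 0, 0, 0, 0, 0, 0, -1, 0, 0, -1, 0, 0, 0, 0, 1], [0, 0, 0, 0, 0, 0, 0, 0, 0, 1, 2, 1, 1, 3, 1, 0, 1, 0, -2, -1, 0, -2, -1], [0, 0, 0, 0, 0, 0, 0, 0, 0, 0, 0, 0, -1], [0, 0, 0, 0, 0, 0, 0, 0, 0, 0, 0, -1, 0, 0, -1, 0, 1, 0, 0, 2, 0, 0, 1, 0, -1, 0, 0, -1], [0, 0, 0, 0, 0, 0, 0, 0, 0,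 0, 0, 0, 1, 0, 0, 0, 1, 0, 0, 0, 0, -1], [0, 0, 0, 0, 0, 0, 0, 0, 0, 0, 0, 0, 1, 0, 0, 0, 1, 0, 0, 0, 0, -1], [0, 0, 0, 0, 0, 0, 0, 0, 0, 0, 0, 0, -1, 0, 0, 0, -1, 2, 0, 0, 0, 2, -1, 0, 0, 0, -1], [0, 0, 0, 0, 0, 0, 0, 0, 0, 0, 0, 0, 0, 0, 0, 0, -1, -2, 0, -1, -2, 0, 1, 0, 1, 3, 1, 1, 2, 1], [0, 0, 0, 0, 0, 0, 0, 0, 0, 0, 0, 0, 0, 0, 0, 0, 0, -1, 0, 0, 0, 0, 1, 0, 0, 0, 1], [0, 0, 0, 0, 0, 0, 0, 0, 0, 0, 0, 0, 0, 0, 0, 0, 0, -1, 0, 0, 0, 0, 1, 0, 0, 0, 1], [0, 0, 0, 0, 0, 0, 0, 0, 0, 0, 0, 0, 0, 0, 0, 0, 0, 1, 0, 0, 1, 0, -1, 0, 0, -2, -1, 0, -1, -1], [0, 0, 0, 0, 0, 0, 0, 0, 0, 0, 0, 0, 0, 0, 0, 0, 0, 1, 0, 0, 1, 0, -1, 0, 0, -2, -1, 0, -1, -1], [0, 0, 0, 0, 0, 0, 0, 0, 0, 0, 0, 0, 0, 0,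 0, 0, 0, 0, 0, 0, 1, 0, 0, 0, 0, -1, 0, 0, -1], [0, 0, 0, 0, 0, 0, 0, 0, 0, 0, 0, 0, 0, 0, 0, 0, 0, 0, 0, 0, -1, 0, 0, 0, 0, 2, 0, 0, 1, 1, -1, 0, 0, -1, -1], [0, 0, 0, 0, 0, 0, 0, 0, 0, 0, 0, 0, 0, 0, 0, 0, 0, 0, 0, 0, 0, 0, 0, 0, 0, 0, 0, 0, 0, 0, 1, 0, 0, 1, 1, 0, 0, 1], [0, 0, 0, 0, 0, 0, 0, 0, 0, 0, 0, 0, 0, 0, 0, 0, 0, 0, 0, 0, 0, 0, 0, 0, 0, 0, -1], [0, 0, 0, 0, 0, 0, 0, 0, 0, 0, 0, 0, 0, 0, 0, 0, 0, 0, 0, 0, 0, 0, 0, 0, 0, 0, 1, 0, 0, 0, 1, 0, 0, 1, 1], [0, 0, 0, 0, 0, 0, 0, 0, 0, 0, 0, 0, 0, 0, 0, 0, 0, 0, 0, 0, 0, 0, 0, 0, 0, 0, 0, 0, 0, 0, -1, 0, 0, -1, -1, 0, 0, -1, -1], [0, 0, 0, 0, 0, 0, 0, 0, 0, 0, 0, 0, 0, 0, 0, 0, 0, 0, 0, 0, 0, 0, 0, 0, 0, 0, 0, 0, 0, 0, 0, 0, 0, 0, 0, 0,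 0, 0, 1]] : List (List ℤ)).getD c []

/-- the eigenvalues of `448` at node `6` -/
def lam13 (c : Fin 26) : List ℤ := ([[1], [-1, -1, 0, 0, -1, -1, 0, 0, -1, -1], [0, 1, 0, 0, 1, 1, 0, 0, 1, 1, 0, 0, 1], [0, 0, 0, 0, 1, 1, 0, 0, 1, 1, 0, 0, 1, 1], [0, 0, 0, 0, -1, -1, 0, 0, -1, 0, 1, 0, -1, 0, 1, 0, 0, 1, 1], [0, 0, 0, 0, 0, 0, 0, 0, 0, -1, -1, 0, -1, -2, -1, 0, -1, -2, -1, 0, -1, -1], [0, 0, 0, 0, 0, 0, 0, 0, 0, -1, -1, 0, -1, -2, -1, 0, -1, -2, -1, 0, -1, -1], [0, 0, 0, 0, 0, 0, 0, 0, 0, 0, -1, 0, 0, 0, -1, 0, 0, 0, -1], [0, 0, 0, 0, 0, 0, 0, 0, 0, 1, 2, 1, 1, 3, 3, 1, 1, 3, 3, 1, 1, 2, 1], [0, 0, 0, 0, 0, 0, 0, 0, 0, 0, 0, 0, -1, -1], [0, 0, 0, 0, 0, 0, 0, 0, 0, 0, 0, -1, 0, 0, -1, -1,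 1, 0, -1, 0, 1, 0, -1, 1, 1, 0, 0, 1], [0, 0, 0, 0, 0, 0, 0, 0, 0, 0, 0, 0, 1, 1, 0, 0, 1, 1, 0, 0, 1, 1], [0, 0, 0, 0, 0, 0, 0, 0, 0, 0, 0, 0, 1, 1, 0, 0, 1, 1, 0, 0, 1, 1], [0, 0, 0, 0, 0, 0, 0, 0, 0, 0, 0, 0, -1, -1, 0, 0, -1, 0, 1, 0, -1, 0, 1, 0, 0, 1, 1], [0, 0, 0, 0, 0, 0, 0, 0, 0, 0, 0, 0, 0, 0, 0, 0, -1, -2, -1, -1, -3, -3, -1, -1, -3, -3, -1, -1, -2, -1], [0, 0, 0, 0, 0, 0, 0, 0, 0, 0, 0, 0, 0, 0, 0, 0, 0, -1, -1, 0, 0, -1, -1, 0, 0, -1, -1], [0, 0, 0, 0, 0, 0, 0, 0, 0, 0, 0, 0, 0, 0, 0, 0, 0, -1, -1, 0, 0, -1, -1, 0, 0, -1, -1], [0, 0, 0, 0, 0, 0, 0, 0, 0, 0, 0, 0, 0, 0, 0, 0, 0, 1, 1, 0, 1, 2, 1, 0, 1, 2, 1, 0, 1, 1], [0, 0, 0, 0, 0, 0, 0, 0, 0, 0, 0, 0, 0, 0, 0, 0, 0, 1, 1, 0,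 1, 2, 1, 0, 1, 2, 1, 0, 1, 1], [0, 0, 0, 0, 0, 0, 0, 0, 0, 0, 0, 0, 0, 0, 0, 0, 0, 0, 0, 0, 1, 0, 0, 0, 1, 0, 0, 0, 1], [0, 0, 0, 0, 0, 0, 0, 0, 0, 0, 0, 0, 0, 0, 0, 0, 0, 0, 0, 0, -1, -1, 0, 0, -1, 0, 1, 0, -1, 0, 1, 0, 0, 1, 1], [0, 0, 0, 0, 0, 0, 0, 0, 0, 0, 0, 0, 0, 0, 0, 0, 0, 0, 0, 0, 0, 0, 0, 0, 0, 0, -1, 0, 0, -1, -1, 0, 0, -1, -1, 0, 0, -1], [0, 0, 0, 0, 0, 0, 0, 0, 0, 0, 0, 0, 0, 0, 0, 0, 0, 0, 0, 0, 0, 0, 0, 0, 0, 1, 1], [0, 0, 0, 0, 0, 0, 0, 0, 0, 0, 0, 0, 0, 0, 0, 0, 0, 0, 0, 0, 0, 0, 0, 0, 0, -1, -1, 0, 0, -1, -1, 0, 0, -1, -1], [0, 0, 0, 0, 0, 0, 0, 0, 0, 0, 0, 0, 0, 0, 0, 0, 0, 0, 0, 0, 0, 0, 0, 0, 0, 0, 0, 0, 0, 1, 1, 0, 0, 1, 1, 0, 0, 1, 1], [0, 0, 0, 0, 0, 0, 0, 0, 0, 0,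 0, 0, 0, 0, 0, 0, 0, 0, 0, 0, 0, 0, 0, 0, 0, 0, 0, 0, 0, 0, 0, 0, 0, 0, 0, 0, 0, 0, -1]] : List (List ℤ)).getD c []

/-- quotients -/
def r11 (c : Fin 26) : List ℤ := ([[], [0, 0, 0, 0, 0, -1, -2, -2, -2, -1], [0, 0, 0, 0, 0, 1, 2, 2, 3, 3, 2, 2, 1], [0, 0, 0, 0, 0, 1, 2, 2, 2, 1, 0, 0, 0, -1, -1], [0, 0, 0, 0, 0, -1, -2, -2, -3, -4, -3, -2, -1, 4, 5, 2, 2, 1], [0, 0, 0, 0, 0, 0, 0, 0, 0, 0, -1, -2, -2, -4, -4, -2, -3, -1, 1, 0, 1, 1], [0, 0, 0, 0, 0, 0, 0, 0, 0, 0, -1, -2, -2, -4, -4, -2, -3, -1, 1, 0, 1, 1], [0, 0, 0, 0, 0, 0, 0, 0, 0, 1, 1, 0, 0, -2, -2], [0, 0, 0, 0, 0, 0, 0, 0, 0, 0, 2, 5, 6, 9, 9, 4, 3, -1, -6, -5, -5, -4, -1], [0, 0, 0, 0, 0, 0, 0, 0, 0, 0, 0, 0, 0, 1, 1], [0, 0, 0,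 0, 0, 0, 0, 0, 0, 0, 0, -1, -2, -2, -3, -2, 1, 2, 4, 6, 4, 2, 1, -2, -3, -2, -2, -1], [0, 0, 0, 0, 0, 0, 0, 0, 0, 0, 0, 0, 0, -1, -1, 0, 1, 0, -1, 0, -1, -1], [0, 0, 0, 0, 0, 0, 0, 0, 0, 0, 0, 0, 0, -1, -1, 0, 1, 0, -1, 0, -1, -1], [0, 0, 0, 0, 0, 0, 0, 0, 0, 0, 0, 0, 0, 1, 1, 0, -1, 4, 6, 3, 5, 2, -1, 0, 0, -1, 0, 1], [0, 0, 0, 0, 0, 0, 0, 0, 0, 0, 0, 0, 0, 0, 0, 0, -1, -4, -4, -4, -6, 0, 4, 4, 9, 9, 5, 4, 2, -1, -1], [0, 0, 0, 0, 0, 0, 0, 0, 0, 0, 0, 0, 0, 0, 0, 0, 0, -1, 0, 1, 0, 1, 1, 0, 0, 1, 0, -1], [0, 0, 0, 0, 0, 0, 0, 0, 0, 0, 0, 0, 0, 0, 0, 0, 0, -1, 0, 1, 0, 1, 1, 0, 0, 1, 0, -1], [0, 0, 0, 0, 0, 0, 0, 0, 0, 0, 0, 0, 0, 0, 0, 0, 0, 1, 0, -1, 1, -2, -4, -2, -4, -4, -1, -1, -1, 1,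 1], [0, 0, 0, 0, 0, 0, 0, 0, 0, 0, 0, 0, 0, 0, 0, 0, 0, 1, 0, -1, 1, -2, -4, -2, -4, -4, -1, -1, -1, 1, 1], [0, 0, 0, 0, 0, 0, 0, 0, 0, 0, 0, 0, 0, 0, 0, 0, 0, 0, 0, 0, 1, 1, 0, 0, -2, -1, 1, 0, 1, 2, 1], [0, 0, 0, 0, 0, 0, 0, 0, 0, 0, 0, 0, 0, 0, 0, 0, 0, 0, 0, 0, -1, 1, 3, 2, 4, 1, -4, -3, -3, -7, -6, -2, -2, -1, 1, 1], [0, 0, 0, 0, 0, 0, 0, 0, 0, 0, 0, 0, 0, 0, 0, 0, 0, 0, 0, 0, 0, 0, 0, 0, 0, 0, 2, 3, 2, 4, 4, 2, 2, 1, -1, -1, 0, -1, -1], [0, 0, 0, 0, 0, 0, 0, 0, 0, 0, 0, 0, 0, 0, 0, 0, 0, 0, 0, 0, 0, 0, 0, 0, 0, -1, 0, 1], [0, 0, 0, 0, 0, 0, 0, 0, 0, 0, 0, 0, 0, 0, 0, 0, 0, 0, 0, 0, 0, 0, 0, 0, 0, 1, 0, -1, 0, 2, 2, 1, 2, 1, -1, -1], [0, 0, 0, 0, 0, 0, 0, 0, 0, 0, 0, 0, 0, 0, 0, 0, 0,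 0, 0, 0, 0, 0, 0, 0, 0, 0, 0, 0, 0, -2, -2, -1, -2, -1, 1, 1, 0, 1, 2, 1], [0, 0, 0, 0, 0, 0, 0, 0, 0, 0, 0, 0, 0, 0, 0, 0, 0, 0, 0, 0, 0, 0, 0, 0, 0, 0, 0, 0, 0, 0, 0, 0, 0, 0, 0, 0, 0, 0, -1, -1]] : List (List ℤ)).getD c []

/-- quotients -/
def r12 (c : Fin 26) : List ℤ := ([[], [0, 0, 0, 0, 0, -1, 0, 0, 0, -1], [0, 0, 0, 0, 0, 1, 0, 0, 1, 1, 0, 0, 1], [0, 0, 0, 0, 0, 1, 0, 0, 0, 1, 0, 0, 0, 1, -1], [0, 0, 0, 0, 0, -1, 0, 0, -1, -2, 1, 0, -1, 0, 1, 0, 0, 1], [0, 0, 0, 0, 0, 0, 0, 0, 0, 0, -1, 0, 0, -2, 0, 0, -1, -1, 1, 0, -1, 1], [0, 0, 0, 0, 0, 0, 0, 0, 0, 0, -1, 0, 0, -2, 0, 0, -1, -1, 1, 0, -1, 1], [0, 0, 0, 0, 0, 0, 0, 0, 0, 1, -1], [0, 0, 0, 0, 0, 0, 0, 0, 0, 0, 2, 1, 0, 3, 1, 0,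 1, 1, -2, -1, 1, -2, -1], [0, 0, 0, 0, 0, 0, 0, 0, 0, 0, 0, 0, 0, -1, 1], [0, 0, 0, 0, 0, 0, 0, 0, 0, 0, 0, -1, 0, 0, -1, 0, 1, 0, 0, 2, 0, 0, 1, 0, -1, 0, 0, -1], [0, 0, 0, 0, 0, 0, 0, 0, 0, 0, 0, 0, 0, 1, -1, 0, 1, 0, -1, 0, 1, -1], [0, 0, 0, 0, 0, 0, 0, 0, 0, 0, 0, 0, 0, 1, -1, 0, 1, 0, -1, 0, 1, -1], [0, 0, 0, 0, 0, 0, 0, 0, 0, 0, 0, 0, 0, -1, 1, 0, -1, 2, 2, -1, -1, 4, -1, 0, 0, 1, -2, 1], [0, 0, 0, 0, 0, 0, 0, 0, 0, 0, 0, 0, 0, 0, 0, 0, -1, -2, 0, 0, -2, 0, 2, 0, 1, 3, 1, 0, 2, 1, -1], [0, 0, 0, 0, 0, 0, 0, 0, 0, 0, 0, 0, 0, 0, 0, 0, 0, -1, 0, 1, 0, -1, 1, 0, 0, -1, 2, -1], [0, 0, 0, 0, 0, 0, 0, 0, 0, 0, 0, 0, 0, 0, 0, 0, 0, -1, 0, 1, 0, -1, 1, 0, 0, -1, 2, -1], [0, 0, 0, 0, 0, 0, 0,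 0, 0, 0, 0, 0, 0, 0, 0, 0, 0, 1, 0, -1, 1, 0, -2, 0, 0, -2, -1, 1, -1, -1, 1], [0, 0, 0, 0, 0, 0, 0, 0, 0, 0, 0, 0, 0, 0, 0, 0, 0, 1, 0, -1, 1, 0, -2, 0, 0, -2, -1, 1, -1, -1, 1], [0, 0, 0, 0, 0, 0, 0, 0, 0, 0, 0, 0, 0, 0, 0, 0, 0, 0, 0, 0, 1, -1, 0, 0, 0, -1, 1, 0, -1, 0, 1], [0, 0, 0, 0, 0, 0, 0, 0, 0, 0, 0, 0, 0, 0, 0, 0, 0, 0, 0, 0, -1, 1, 1, 0, 0, 3, -2, -1, 1, 1, -4, 0, 0, -1, -1, 1], [0, 0, 0, 0, 0, 0, 0, 0, 0, 0, 0, 0, 0, 0, 0, 0, 0, 0, 0, 0, 0, 0, 0, 0, 0, 0, 0, 1, 0, 0, 2, 0, 0, 1, 1, -1, 0, 1, -1], [0, 0, 0, 0, 0, 0, 0, 0, 0, 0, 0, 0, 0, 0, 0, 0, 0, 0, 0, 0, 0, 0, 0, 0, 0, 1, -2, 1], [0, 0, 0, 0, 0, 0, 0, 0, 0, 0, 0, 0, 0, 0, 0, 0, 0, 0, 0, 0, 0, 0, 0, 0, 0, -1, 2, -1, 0, 0, 2,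 -1, 0, 1, 1, -1], [0, 0, 0, 0, 0, 0, 0, 0, 0, 0, 0, 0, 0, 0, 0, 0, 0, 0, 0, 0, 0, 0, 0, 0, 0, 0, 0, 0, 0, 0, -2, 1, 0, -1, -1, 1, 0, -1, 0, 1], [0, 0, 0, 0, 0, 0, 0, 0, 0, 0, 0, 0, 0, 0, 0, 0, 0, 0, 0, 0, 0, 0, 0, 0, 0, 0, 0, 0, 0, 0, 0, 0, 0, 0, 0, 0, 0, 0, 1, -1]] : List (List ℤ)).getD c []

/-- quotients -/
def r13 (c : Fin 26) : List ℤ := ([[], [-1, -3, -4, -4, -5, -6, -5, -4, -5, -6, -5, -4, -4, -3, -1], [0, 1, 1, 0, 0, 0, -3, -6, -7, -9, -13, -15, -15, -17, -19, -18, -17, -17, -15, -12, -10, -8, -5, -3, -2, -1], [0, 0, 0, 0, 1, 2, 1, 0, 1, 1, -2, -4, -3, -3, -5, -5, -4, -5, -6, -5, -4, -4, -3, -1], [0, 0, 0, 0, -1, -2, -1, 0, -1, 0, 3, 1, -5, -8, -11, -20, -28, -30, -34, -42, -45, -44,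 -46, -47, -42, -36, -32, -26, -18, -12, -8, -4, -1], [0, 0, 0, 0, 0, 0, 0, 0, 0, -1, -2, -1, -1, -3, -2, 1, 0, -3, -3, -4, -10, -15, -17, -22, -28, -30, -32, -36, -37, -35, -34, -32, -27, -22, -18, -13, -8, -5, -3, -1], [0, 0, 0, 0, 0, 0, 0, 0, 0, -1, -2, -1, -1, -3, -2, 1, 0, -3, -3, -4, -10, -15, -17, -22, -28, -30, -32, -36, -37, -35, -34, -32, -27, -22, -18, -13, -8, -5, -3, -1], [0, 0, 0, 0, 0, 0, 0, 0, 0, 0, -1, -1, 0, 0, -1, 0, 1, 0, -1, 0, 0, -2, -2, -1, -2, -3, -2, -2, -3, -3, -2, -2, -2, -1], [0, 0, 0, 0, 0, 0, 0, 0, 0, 1, 3, 3, 2, 4, 5, 1, -1, 2, 2, -1, 1, 4, 0, -5, -7, -14, -25, -32, -39, -50, -58, -62, -68, -73, -72, -69, -66, -59, -49, -40, -31, -21, -13, -8, -4, -1], [0, 0,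 0, 0, 0, 0, 0, 0, 0, 0, 0, 0, -1, -2, -1, 0, 0, 1, 2, 1, 0, 0, -1, -2, -1], [0, 0, 0, 0, 0, 0, 0, 0, 0, 0, 0, -1, -1, 0, -1, -2, 1, 2, -1, 0, 3, 0, -3, 1, 2, -2, 0, 3, -2, -6, -6, -13, -22, -26, -32, -42, -47, -50, -56, -59, -57, -56, -54, -47, -40, -34, -26, -18, -13, -8, -4, -2, -1], [0, 0, 0, 0, 0, 0, 0, 0, 0, 0, 0, 0, 1, 2, 1, 0, 1, 1, -1, -1, 1, 1, 0, 1, 1, -1, -1, 0, -2, -4, -3, -3, -5, -5, -4, -5, -6, -5, -4, -4, -3, -1], [0, 0, 0, 0, 0, 0, 0, 0, 0, 0, 0, 0, 1, 2, 1, 0, 1, 1, -1, -1, 1, 1, 0, 1, 1, -1, -1, 0, -2, -4, -3, -3, -5, -5, -4, -5, -6, -5, -4, -4, -3, -1], [0, 0, 0, 0, 0, 0, 0, 0, 0, 0, 0, 0, -1, -2, -1, 0, -1, 0, 3, 2, -1, 0, 1, -2, -2, 2, 2, 0, 2, 1, -6, -10, -12, -20, -28,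 -30, -34, -42, -45, -44, -46, -47, -42, -36, -32, -26, -18, -12, -8, -4, -1], [0, 0, 0, 0, 0, 0, 0, 0, 0, 0, 0, 0, 0, 0, 0, 0, -1, -3, -3, -2, -4, -5, -1, 1, -2, -2, 1, -1, -4, -1, 1, -1, 1, 4, 0, -5, -7, -14, -25, -32, -39, -50, -58, -62, -68, -73, -72, -69, -66, -59, -49, -40, -31, -21, -13, -8, -4, -1], [0, 0, 0, 0, 0, 0, 0, 0, 0, 0, 0, 0, 0, 0, 0, 0, 0, -1, -2, -1, 0, -1, -1, 1, 1, -1, -1, 0, -1, -1, 1, 1, 0, 1, 1, -1, -1, 0, -2, -4, -3, -3, -5, -5, -4, -5, -6, -5, -4, -4, -3, -1], [0, 0, 0, 0, 0, 0, 0, 0, 0, 0, 0, 0, 0, 0, 0, 0, 0, -1, -2, -1, 0, -1, -1, 1, 1, -1, -1, 0, -1, -1, 1, 1, 0, 1, 1, -1, -1, 0, -2, -4, -3, -3, -5, -5, -4, -5, -6, -5, -4, -4, -3, -1], [0, 0, 0, 0, 0, 0, 0, 0,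 0, 0, 0, 0, 0, 0, 0, 0, 0, 1, 2, 1, 1, 3, 2, -1, 0, 2, 0, -1, 2, 2, -1, 0, 1, -2, -2, 1, 0, -1, 2, 2, -2, -3, -4, -10, -15, -17, -22, -28, -30, -32, -36, -37, -35, -34, -32, -27, -22, -18, -13, -8, -5, -3, -1], [0, 0, 0, 0, 0, 0, 0, 0, 0, 0, 0, 0, 0, 0, 0, 0, 0, 1, 2, 1, 1, 3, 2, -1, 0, 2, 0, -1, 2, 2, -1, 0, 1, -2, -2, 1, 0, -1, 2, 2, -2, -3, -4, -10, -15, -17, -22, -28, -30, -32, -36, -37, -35, -34, -32, -27, -22, -18, -13, -8, -5, -3, -1], [0, 0, 0, 0, 0, 0, 0, 0, 0, 0, 0, 0, 0, 0, 0, 0, 0, 0, 0, 0, 1, 1, 0, 0, 1, 0, -1, 0, 1, 0, 0, 1, 0, -1, 0, 0, -1, 0, 1, 0, 0, 1, 0, -1, 0, 0, -2, -2, -1, -2, -3, -2, -2, -3, -3, -2, -2, -2, -1], [0, 0, 0, 0, 0, 0, 0, 0, 0, 0, 0, 0, 0, 0, 0, 0, 0, 0,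 0, 0, -1, -2, -1, 0, -1, 0, 3, 2, -1, 0, 1, -2, -2, 2, 2, 0, 2, 2, -2, -2, 0, -2, -2, 2, 2, 0, 2, 1, -6, -10, -12, -20, -28, -30, -34, -42, -45, -44, -46, -47, -42, -36, -32, -26, -18, -12, -8, -4, -1], [0, 0, 0, 0, 0, 0, 0, 0, 0, 0, 0, 0, 0, 0, 0, 0, 0, 0, 0, 0, 0, 0, 0, 0, 0, 0, -1, -1, 0, -1, -2, 0, 1, -1, -1, 1, 0, -2, 0, 1, -1, 0, 2, 0, -1, 1, 0, -2, 0, 1, -1, 0, 2, 0, -2, -1, -3, -7, -8, -9, -13, -15, -15, -17, -19, -18, -17, -17, -15, -12, -10, -8, -5, -3, -2, -1], [0, 0, 0, 0, 0, 0, 0, 0, 0, 0, 0, 0, 0, 0, 0, 0, 0, 0, 0, 0, 0, 0, 0, 0, 0, 1, 2, 1, 0, 0, -1, -2, -1, 0, 0, 1, 2, 1, 0, 0, -1, -2, -1, 0, 0, 1, 2, 1, 0, 0, -1, -2, -1], [0, 0, 0, 0, 0, 0, 0, 0, 0, 0, 0, 0, 0, 0, 0, 0, 0,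 0, 0, 0, 0, 0, 0, 0, 0, -1, -2, -1, 0, -1, -1, 1, 1, -1, -1, 0, -1, -1, 1, 1, 0, 1, 1, -1, -1, 0, -1, -1, 1, 1, 0, 1, 1, -1, -1, 0, -2, -4, -3, -3, -5, -5, -4, -5, -6, -5, -4, -4, -3, -1], [0, 0, 0, 0, 0, 0, 0, 0, 0, 0, 0, 0, 0, 0, 0, 0, 0, 0, 0, 0, 0, 0, 0, 0, 0, 0, 0, 0, 0, 1, 2, 1, 0, 1, 1, -1, -1, 1, 1, 0, 1, 1, -1, -1, 0, -1, -1, 1, 1, 0, 1, 1, -1, -1, 0, -1, -1, 1, 1, 0, 1, 1, -1, -1, 0, -2, -4, -3, -3, -5, -5, -4, -5, -6, -5, -4, -4, -3, -1], [0, 0, 0, 0, 0, 0, 0, 0, 0, 0, 0, 0, 0, 0, 0, 0, 0, 0, 0, 0, 0, 0, 0, 0, 0, 0, 0, 0, 0, 0, 0, 0, 0, 0, 0, 0, 0, 0, -1, -1, 0, 0, 0, 1, 1, 0, 0, 0, -1, -1, 0, 0, 0, 1, 1, 0, 0, 0, -1, -1, 0, 0, 0, 1, 1, 0, 0, 0, -1, -1, 0, 0, 0, 1, 1, 0, 0, 0,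 -1, -1]] : List (List ℤ)).getD c []

/-- `567 ~ 1400` modulo `Φ₁₀` -/
theorem c11 : ∀ c, pEq (lam11 c) (pAdd (LinkE8.lam c) (pMul [1, -1, 1, -1, 1] (r11 c))) = true := by decide +kernel

/-- `567 ~ 1344` modulo `Φ₅` -/
theorem d12 : ∀ c, pEq (lam12 c) (pAdd (LinkE8.lam c) (pMul [1, 1, 1, 1, 1] (r12 c))) = true := by decide +kernel

/-- `1 ~ 448` modulo `Φ₁₀` -/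
theorem c13 : ∀ c, pEq (lam13 c) (pAdd (TabE8c.data.kk c) (pMul [1, -1, 1, -1, 1] (r13 c))) = true := by decide +kernel

end Cfsg.Agent.H594.LB.LamTab
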