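import Cfsg.Agent.H594.LB.Mu

/-!
# `E₈`: `8` and `112` are in the same block modulo `Φ₅` (helper594, S4879)

* `exists_35`, `exists_112` : the constituents (node `7`);
* `five_8_112` : `8 ~ 112` if `l ∣ Φ₅ (x)`.
-/

set_option autoImplicit false
set_option linter.unusedSectionVars false
set_option maxRecDepth 20000

namespace Cfsg.Agent.H594.LB.Link112

open Cfsg Cfsg.Agent.H967.Sph Cfsg.Agent.H64.Dl.Sph Cfsg.Agent.H996.Eight Cfsg.Agent.H996.Eight.Cert Cfsg.Agent.H996.PQ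
  Cfsg.Agent.Blocks.Basic Cfsg.Agent.Blocks.Local Cfsg.Agent.H790.PQ Cfsg.Agent.H594.PQ Cfsg.Agent.H594.LB.LamTab
  Cfsg.Agent.H594.LB.Mem
open Cfsg.Agent.H154.PQE8 (lam_spec)
open CoxeterSystem Cfsg.Agent.ChevalleyStructure.CoxeterGeom Cfsg.Agent.Tits.Roots Cfsg.Agent.Tits.Core
  Cfsg.Agent.Nodes.Reps Cfsg.Agent.Nodes.BNOf Cfsg.Agent.Nodes.Bruhat Cfsg.Agent.Nodes.LeviDec
open scoped BigOperators

universe u

/-- the eigenvalues of `112` at node `7` -/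
def lam7_112 (c : Fin 5) : List ℤ := ([[1], [-1, 0, 0, 0, 0, -1, 0, 0, 0, -1, 0, 0, 0, 0, 1], [0, 0, 0, 0, 0, 1, 0, 0, 0, 1, 0, 0, 0, 1, -1, 0, 0, 0, -1, 0, 0, 0, -1], [0, 0, 0, 0, 0, 0, 0, 0, 0, 0, 0, 0, 0, -1, 0, 0, 0, 0, 1, 0, 0, 0, 1, 0, 0, 0, 0, 1], [0, 0, 0, 0, 0, 0, 0, 0, 0, 0, 0, 0, 0, 0, 0, 0, 0, 0, 0, 0, 0, 0, 0, 0, 0, 0, 0, -1]] : List (List ℤ)).getD c []

/-- quotients -/
def s112 (c : Fin 5) : List ℤ := ([[], [0, 0, 0, 0, 0, -1, 0, 0, 0, -1, -1, 0, 0, 0, -1, -1, 0, 0, 0, -1], [0, 0, 0, 0, 0, 1, 0, 0, 0, 1, 1, 0, 0, 1, 0, 1, 0, 0, 0, 0, 0, 0, -1, 0, -1, 0, 0, -1, -1, 0, 0, 0, -1], [0, 0, 0, 0, 0, 0, 0, 0, 0, 0, 0, 0, 0, -1, 1, 0, 0, 0, 0, 1, 0, 0, 1, 0, 1, 0, 0, 2, 0, 0, 0, 0, 2, -1, 0, 0, 0, 1, -1], [0, 0, 0, 0, 0, 0, 0, 0, 0, 0, 0, 0, 0, 0, 0, 0, 0, 0, 0, 0, 0, 0, 0, 0, 0, 0, 0, -1, 1, 0, 0, 0, -1, 1, 0, 0, 0,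 -1, 1]] : List (List ℤ)).getD c []

theorem lam7_112_ok : ∀ c, pEq (pMul (lam7_112 c) (TabE8a.c4.nu 0)) (pMul (TabE8a.data.kk c) (TabE8a.c4.nu c)) = true := by
  decide +kernel

/-- `8 ~ 112` modulo `Φ₅` -/
theorem d112 : ∀ c, pEq (lam7_112 c) (pAdd (lam7_8 c) (pMul [1, 1, 1, 1, 1] (s112 c))) = true := by decide +kernel

theorem pos112 : pPos (TabE8a.c4.nu 0) = true := by decide +kernel

variable {W : Type*} {Y : Type u} [Group W] [Finite W] [Group Y] [Finite Y]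
    {M : CoxeterMatrix (Fin 8)} {cs : CoxeterSystem M W} {h : IsCartan M TabE8c.A} {p : ℕ} {T : Subgroup Y}
    {n : Fin 8 → Y} {X : (Fin 8 → ℤ) → Subgroup Y} (R : RGD cs h p T n X) (hG : GG cs h T X = ⊤)

variable {x : ℕ} (hx : 2 ≤ x) (hq : ∀ i, Nat.card (X (sr i)) = x) {l : ℕ} {M' : Ideal AlgInt}
  (hM : IsPModular l M')

include hx hq in
/-- the constituent `112` -/
theorem exists_112 : ∃ χ : Y → ℂ, Is7 R hG x TabE8a.c4 χ := Mu.exists_c7 R hG hx hq 4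

include hx hq in
/-- the constituent `35` -/
theorem exists_35 : ∃ χ : Y → ℂ, Is7 R hG x TabE8a.c2 χ := Mu.exists_c7 R hG hx hq 2

include hx in
theorem val112 (c : Fin 5) :
    ev (x : ℚ) (dataP.kk c) * (ev x (TabE8a.c4.nu c) / ev x (TabE8a.c4.nu 0)) = ev x (lam7_112 c) :=
  lam_spec (C := TabE8a.c4) (o := 0) (kk := TabE8a.data.kk) pos112 lam7_112_ok hx c

include hx hq hM in
/-- **`8 ~ 112` modulo `Φ₅`** -/
theorem five_8_112 (hd : (l : ℤ) ∣ evZ x [1, 1, 1, 1, 1]) {χ ψ : Y → ℂ} {d d' : ℕ}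
    (H : HasVal R hG tabP χ d (fun c => ev x (TabE8a.c1.nu c) / ev x (TabE8a.c1.nu 0)))
    (H' : HasVal R hG tabP ψ d' (fun c => ev x (TabE8a.c4.nu c) / ev x (TabE8a.c4.nu 0))) :
    SameBlock M' χ ψ :=
  same_of R hG dataP (hqP hq) H H' (val8 hx) (val112 hx) d112 hd hM

end Cfsg.Agent.H594.LB.Link112
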