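import Cfsg.Agent.H594.PQ.LinkE8b

/-!
# `E₈`: the constituent `8` (points) and the constituent `567` (lines) are in the same block modulo `Φ₁₀` (helper594, S4879)
-/

set_option autoImplicit false
set_option linter.unusedSectionVars false
set_option maxRecDepth 20000

namespace Cfsg.Agent.H594.LB.Link8

open Cfsg Cfsg.Agent.H967.Sph Cfsg.Agent.H64.Dl.Sph Cfsg.Agent.H996.Eight Cfsg.Agent.H996.Eight.Cert Cfsg.Agent.H996.PQ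
  Cfsg.Agent.H996.PQ.LinkE8
  Cfsg.Agent.Blocks.Basic Cfsg.Agent.Blocks.Local Cfsg.Agent.H790.PQ Cfsg.Agent.H594.PQ
open CoxeterSystem Cfsg.Agent.ChevalleyStructure.CoxeterGeom Cfsg.Agent.Tits.Roots Cfsg.Agent.Tits.Core
  Cfsg.Agent.Tits.Exchange
  Cfsg.Agent.Nodes.Reps Cfsg.Agent.Nodes.BNOf Cfsg.Agent.Nodes.Bruhat Cfsg.Agent.Nodes.LeviDec
open scoped BigOperators

universe u

/-! ### Polynomials -/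

/-- the polynomial of `W` -/
def W8 (s : Fin 240) : List ℤ :=
  pAdd (TabE8a.c1.nu (TabE8a.tab.cls s)) (if TabE8a.tab.vec s 7 < 0 then
    pAdd (TabE8a.c1.nu (TabE8a.tab.cls (TabE8a.tab.st 7 s))) (pMul [-1, 1] (TabE8a.c1.nu (TabE8a.tab.cls s)))
    else 0 :: TabE8a.c1.nu (TabE8a.tab.cls (TabE8a.tab.st 7 s)))

theorem W8_st : ∀ i, i ≠ 6 → ∀ s, pEq (W8 (TabE8a.tab.st i s)) (W8 s) = true := by decide +kernel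

/-- the values of the kernel -/
def k8 (c : Fin 26) : List ℤ := pAdd (W8 (y0 c)) (0 :: W8 (y1 c))

def lam8L : List (List ℤ) := [[1], [-1, 0, 1, 1, 1, 3, 4, 4, 4, 6, 5, 4, 4, 4, 2, 1, 1, 1], [0, 0, -1, -1, -1, -2, -2, -1, 0, 1, 4, 7, 9, 12, 15, 16, 16, 16, 15, 12, 10, 8, 5, 3, 2, 1], [0, 0, 0, 0, 0, -1, -1, -1, -1, -2, 0, 1, 1, 1, 4, 4, 4, 4, 6, 4, 3, 3, 3, 1, 1, 1, 1], [0, 0, 0, 0, 0, 0, -1, -2, -3, -5, -9, -10, -10, -11, -11, -4, 2, 7, 15, 27, 32, 35, 39, 41, 35, 30, 26, 20, 12, 8, 5, 2], [0, 0, 0, 0, 0, 0, 0, 0, 0, 0, 0, -1, -2, -3, -5, -8, -10, -11, -13, -13, -10, -7, -3, 4, 11, 16, 21, 26, 27, 26, 25, 22, 17, 13, 10, 6, 3, 2, 1], [0, 0, 0, 0, 0, 0, 0, 0, 0, 0, 0, -1, -2, -3, -5, -8, -10, -11, -13, -13, -10, -7, -3, 4, 11, 16, 21, 26, 27, 26, 25, 22, 17, 13, 10,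 6, 3, 2, 1], [0, 0, 0, 0, 0, 0, 0, 0, 0, 0, 0, 0, 0, 0, 0, -1, -1, -1, -1, -2, -1, 0, 0, 0, 2, 2, 2, 2, 3, 2, 1, 1, 1], [0, 0, 0, 0, 0, 0, 0, 0, 0, 0, 0, 0, 0, 0, 0, 0, -2, -5, -8, -13, -20, -26, -30, -34, -35, -30, -23, -14, 0, 15, 27, 37, 46, 49, 47, 44, 38, 29, 21, 15, 9, 4, 2, 1], [0, 0, 0, 0, 0, 0, 0, 0, 0, 0, 0, 0, 0, 0, 0, 0, 0, 0, -1, 0, 0, 0, 0, 1, 0, 0, 0, 1], [0, 0, 0, 0, 0, 0, 0, 0, 0, 0, 0, 0, 0, 0, 0, 0, 0, 0, 0, 0, -1, -2, -4, -8, -12, -17, -23, -28, -31, -33, -32, -27, -20, -11, 0, 11, 20, 27, 32, 33, 31, 28, 23, 17, 12, 8, 4, 2, 1], [0, 0, 0, 0, 0, 0, 0, 0, 0, 0, 0, 0, 0, 0, 0, 0, 0, 0, 0, -1, -1, -1, -2, -3, -2, -2, -3, -3, 0, 0, 0, 2, 4, 3, 3, 4, 4, 2, 2, 2, 1], [0, 0, 0, 0, 0, 0, 0, 0, 0, 0, 0, 0, 0, 0, 0, 0, 0, 0, 0, -1, -1, -1, -2, -3, -2, -2, -3,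 -3, 0, 0, 0, 2, 4, 3, 3, 4, 4, 2, 2, 2, 1], [0, 0, 0, 0, 0, 0, 0, 0, 0, 0, 0, 0, 0, 0, 0, 0, 0, 0, 0, 0, -1, -2, -3, -6, -11, -14, -17, -23, -27, -25, -24, -24, -17, -6, 0, 6, 17, 24, 24, 25, 27, 23, 17, 14, 11, 6, 3, 2, 1], [0, 0, 0, 0, 0, 0, 0, 0, 0, 0, 0, 0, 0, 0, 0, 0, 0, 0, 0, 0, 0, 0, 0, 0, 0, -1, -2, -4, -9, -15, -21, -29, -38, -44, -47, -49, -46, -37, -27, -15, 0, 14, 23, 30, 35, 34, 30, 26, 20, 13, 8, 5, 2], [0, 0, 0, 0, 0, 0, 0, 0, 0, 0, 0, 0, 0, 0, 0, 0, 0, 0, 0, 0, 0, 0, 0, 0, 0, 0, 0, 0, -1, -2, -2, -2, -4, -4, -3, -3, -4, -2, 0, 0, 0, 3, 3, 2, 2, 3, 2, 1, 1, 1], [0, 0, 0, 0, 0, 0, 0, 0, 0, 0, 0, 0, 0, 0, 0, 0, 0, 0, 0, 0, 0, 0, 0, 0, 0, 0, 0, 0, -1, -2, -2, -2, -4, -4, -3, -3, -4, -2, 0, 0, 0, 3, 3, 2, 2, 3, 2, 1, 1, 1], [0, 0, 0, 0, 0, 0, 0, 0, 0, 0, 0,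 0, 0, 0, 0, 0, 0, 0, 0, 0, 0, 0, 0, 0, 0, 0, 0, 0, 0, 0, -1, -2, -3, -6, -10, -13, -17, -22, -25, -26, -27, -26, -21, -16, -11, -4, 3, 7, 10, 13, 13, 11, 10, 8, 5, 3, 2, 1], [0, 0, 0, 0, 0, 0, 0, 0, 0, 0, 0, 0, 0, 0, 0, 0, 0, 0, 0, 0, 0, 0, 0, 0, 0, 0, 0, 0, 0, 0, -1, -2, -3, -6, -10, -13, -17, -22, -25, -26, -27, -26, -21, -16, -11, -4, 3, 7, 10, 13, 13, 11, 10, 8, 5, 3, 2, 1], [0, 0, 0, 0, 0, 0, 0, 0, 0, 0, 0, 0, 0, 0, 0, 0, 0, 0, 0, 0, 0, 0, 0, 0, 0, 0, 0, 0, 0, 0, 0, 0, 0, 0, 0, 0, -1, -1, -1, -2, -3, -2, -2, -2, -2, 0, 0, 0, 1, 2, 1, 1, 1, 1], [0, 0, 0, 0, 0, 0, 0, 0, 0, 0, 0, 0, 0, 0, 0, 0, 0, 0, 0, 0, 0, 0, 0, 0, 0, 0, 0, 0, 0, 0, 0, 0, 0, 0, 0, 0, 0, -2, -5, -8, -12, -20, -26, -30, -35, -41, -39, -35, -32, -27, -15, -7, -2, 4, 11, 11, 10, 10, 9, 5, 3, 2, 1],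 [0, 0, 0, 0, 0, 0, 0, 0, 0, 0, 0, 0, 0, 0, 0, 0, 0, 0, 0, 0, 0, 0, 0, 0, 0, 0, 0, 0, 0, 0, 0, 0, 0, 0, 0, 0, 0, 0, 0, 0, 0, 0, 0, -1, -2, -3, -5, -8, -10, -12, -15, -16, -16, -16, -15, -12, -9, -7, -4, -1, 0, 1, 2, 2, 1, 1, 1], [0, 0, 0, 0, 0, 0, 0, 0, 0, 0, 0, 0, 0, 0, 0, 0, 0, 0, 0, 0, 0, 0, 0, 0, 0, 0, 0, 0, 0, 0, 0, 0, 0, 0, 0, 0, 0, 0, 0, 0, 0, -1, 0, 0, 0, -1, 0, 0, 0, 0, 1], [0, 0, 0, 0, 0, 0, 0, 0, 0, 0, 0, 0, 0, 0, 0, 0, 0, 0, 0, 0, 0, 0, 0, 0, 0, 0, 0, 0, 0, 0, 0, 0, 0, 0, 0, 0, 0, 0, 0, 0, 0, 0, -1, -1, -1, -1, -3, -3, -3, -4, -6, -4, -4, -4, -4, -1, -1, -1, 0, 2, 1, 1, 1, 1], [0, 0, 0, 0, 0, 0, 0, 0, 0, 0, 0, 0, 0, 0, 0, 0, 0, 0, 0, 0, 0, 0, 0, 0, 0, 0, 0, 0, 0, 0, 0, 0, 0, 0, 0, 0, 0, 0, 0, 0, 0, 0, 0, 0, 0, 0, 0, 0, 0, 0, 0, -1, -1, -1, -2, -4, -4, -4,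 -5, -6, -4, -4, -4, -3, -1, -1, -1, 0, 1], [0, 0, 0, 0, 0, 0, 0, 0, 0, 0, 0, 0, 0, 0, 0, 0, 0, 0, 0, 0, 0, 0, 0, 0, 0, 0, 0, 0, 0, 0, 0, 0, 0, 0, 0, 0, 0, 0, 0, 0, 0, 0, 0, 0, 0, 0, 0, 0, 0, 0, 0, 0, 0, 0, 0, 0, 0, 0, 0, 0, 0, 0, 0, 0, 0, 0, 0, 0, -1]]

/-- the eigenvalues of `8` at node `6` -/
def lam8 (c : Fin 26) : List ℤ := lam8L.getD c []

def rr8L : List (List ℤ) := [[], [0, 1, 2, 2, 3, 5, 5, 4, 5, 5, 3, 2, 2, 1], [0, -1, -2, -2, -3, -4, -2, 1, 3, 8, 14, 17, 20, 23, 22, 19, 17, 13, 8, 5, 3, 1], [0, 0, 0, 0, -1, -2, -1, 0, -1, 0, 3, 4, 3, 5, 7, 5, 4, 5, 4, 2, 2, 2, 1], [0, 0, 0, 0, 1, 1, -2, -5, -7, -15, -23, -22, -20, -21, -10, 9, 20, 31, 48, 56, 52, 49, 44, 32, 20, 13, 7, 2], [0, 0, 0, 0, 0, 0, 0, 0, 0, 1, 1, -2, -4, -6, -13, -19, -20, -23, -24, -16, -7, 0, 13,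 26, 31, 35, 38, 34, 27, 22, 16, 9, 5, 3, 1], [0, 0, 0, 0, 0, 0, 0, 0, 0, 1, 1, -2, -4, -6, -13, -19, -20, -23, -24, -16, -7, 0, 13, 26, 31, 35, 38, 34, 27, 22, 16, 9, 5, 3, 1], [0, 0, 0, 0, 0, 0, 0, 0, 0, 1, 2, 1, 0, 1, -1, -4, -3, -2, -4, -3, 1, 2, 2, 4, 5, 3, 2, 2, 1], [0, 0, 0, 0, 0, 0, 0, 0, 0, -1, -1, 2, 4, 5, 10, 12, 5, -1, -9, -28, -45, -52, -60, -62, -46, -25, -5, 22, 48, 61, 67, 69, 61, 47, 35, 24, 13, 6, 3, 1], [0, 0, 0, 0, 0, 0, 0, 0, 0, 0, 0, 0, 1, 0, -1, 0, 0, -1, 0, 1, 0, 0, 1, 1], [0, 0, 0, 0, 0, 0, 0, 0, 0, 0, 0, 0, -1, -2, -2, -3, -3, 0, 2, 3, 6, 5, -2, -9, -19, -34, -45, -50, -53, -48, -33, -16, 2, 22, 37, 44, 47, 45, 37, 28, 20, 12, 6, 3, 1], [0, 0, 0, 0, 0, 0, 0, 0, 0, 0, 0, 0, -1, 0, 1, 0, 0, 2, 0, -3, -1, -1, -6, -6, -2, -4, -5, 0, 3, 2, 4, 7, 6,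 4, 4, 3, 1], [0, 0, 0, 0, 0, 0, 0, 0, 0, 0, 0, 0, -1, 0, 1, 0, 0, 2, 0, -3, -1, -1, -6, -6, -2, -4, -5, 0, 3, 2, 4, 7, 6, 4, 4, 3, 1], [0, 0, 0, 0, 0, 0, 0, 0, 0, 0, 0, 0, 1, 0, -1, 0, 0, -2, 3, 7, 2, 2, 5, -7, -21, -21, -30, -46, -43, -31, -29, -18, 6, 20, 25, 35, 41, 35, 28, 24, 17, 9, 5, 3, 1], [0, 0, 0, 0, 0, 0, 0, 0, 0, 0, 0, 0, 0, 0, 0, 0, 0, -1, -4, -5, -5, -7, -4, 3, 5, 7, 13, 8, -7, -18, -34, -58, -71, -73, -74, -63, -37, -12, 9, 32, 48, 51, 49, 44, 33, 21, 13, 7, 2], [0, 0, 0, 0, 0, 0, 0, 0, 0, 0, 0, 0, 0, 0, 0, 0, 0, 0, -1, -1, 0, -1, -1, 2, 2, -1, 1, 2, -3, -5, -2, -5, -9, -5, -2, -4, -2, 3, 3, 2, 4, 5, 3, 2, 2, 1], [0, 0, 0, 0, 0, 0, 0, 0, 0, 0, 0, 0, 0, 0, 0, 0, 0, 0, -1, -1, 0, -1, -1, 2, 2, -1, 1, 2, -3, -5, -2, -5, -9, -5, -2, -4, -2, 3, 3, 2, 4, 5,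 3, 2, 2, 1], [0, 0, 0, 0, 0, 0, 0, 0, 0, 0, 0, 0, 0, 0, 0, 0, 0, 0, 1, 1, 0, 1, 0, -4, -4, -3, -7, -6, 0, -1, -2, 3, 0, -10, -14, -20, -33, -39, -37, -37, -33, -20, -8, 0, 10, 18, 19, 18, 17, 13, 8, 5, 3, 1], [0, 0, 0, 0, 0, 0, 0, 0, 0, 0, 0, 0, 0, 0, 0, 0, 0, 0, 1, 1, 0, 1, 0, -4, -4, -3, -7, -6, 0, -1, -2, 3, 0, -10, -14, -20, -33, -39, -37, -37, -33, -20, -8, 0, 10, 18, 19, 18, 17, 13, 8, 5, 3, 1], [0, 0, 0, 0, 0, 0, 0, 0, 0, 0, 0, 0, 0, 0, 0, 0, 0, 0, 0, 0, 0, 0, 0, 0, 0, -1, -1, 0, 0, -1, 1, 2, 0, 1, 3, 0, -3, -2, -3, -6, -5, -2, -2, -1, 2, 3, 2, 2, 2, 1], [0, 0, 0, 0, 0, 0, 0, 0, 0, 0, 0, 0, 0, 0, 0, 0, 0, 0, 0, 0, 0, 0, 1, 2, 2, 4, 5, 1, -2, -1, -7, -12, -6, -3, -7, 1, 10, 2, -5, -5, -20, -42, -48, -51, -60, -56, -38, -26, -16, 1, 14, 16, 17, 18, 14, 8, 5, 3,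 1], [0, 0, 0, 0, 0, 0, 0, 0, 0, 0, 0, 0, 0, 0, 0, 0, 0, 0, 0, 0, 0, 0, 0, 0, 0, 0, 0, 1, 2, 2, 3, 5, 4, 2, 3, 1, -3, -2, -1, -4, -2, 3, 1, -1, 1, -3, -11, -14, -17, -23, -24, -20, -18, -15, -8, -3, -1, 2, 4, 3, 2, 2, 1], [0, 0, 0, 0, 0, 0, 0, 0, 0, 0, 0, 0, 0, 0, 0, 0, 0, 0, 0, 0, 0, 0, 0, 0, 0, 1, 1, 0, 0, 0, -2, -1, 1, 0, 0, 2, 1, -1, 0, 0, -2, -2, 0, 0, 0, 1, 1], [0, 0, 0, 0, 0, 0, 0, 0, 0, 0, 0, 0, 0, 0, 0, 0, 0, 0, 0, 0, 0, 0, 0, 0, 0, -1, -1, 0, 0, 0, 3, 3, 1, 2, 3, -1, -2, 1, -1, -4, 0, 2, -2, -1, 2, -2, -6, -4, -5, -9, -8, -4, -4, -3, 1, 3, 2, 2, 2, 1], [0, 0, 0, 0, 0, 0, 0, 0, 0, 0, 0, 0, 0, 0, 0, 0, 0, 0, 0, 0, 0, 0, 0, 0, 0, 0, 0, 0, 0, 0, -1, -2, -2, -2, -3, -1, 1, 0, 1, 4, 2, -1, 1, 1, -3, -2, 1, -1, -1, 3, 2, -2, -1, -1, -6, -8, -6, -7, -8, -5, -2, -2,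 -1, 1, 1], [0, 0, 0, 0, 0, 0, 0, 0, 0, 0, 0, 0, 0, 0, 0, 0, 0, 0, 0, 0, 0, 0, 0, 0, 0, 0, 0, 0, 0, 0, 0, 0, 0, 0, 0, 0, 0, 0, 0, 0, 0, 0, 0, -1, -1, 0, 0, 0, 1, 1, 0, 0, 0, -1, -1, 0, 0, 0, 1, 1, 0, 0, 0, -1, -1]]

def rr8 (c : Fin 26) : List ℤ := rr8L.getD c []

theorem hk8 : ∀ c, pEq (pMul (TabE8c.kk c) (k8 c)) (pMul (lam8 c) (k8 0)) = true := by decide +kernel

theorem hpos8 : pNV (k8 0) = true := by decide +kernel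

theorem hcong8 : ∀ c, pEq (lam8 c) (pAdd (lam c) (pMul [1, -1, 1, -1, 1] (rr8 c))) = true := by decide +kernel

/-! ### The values -/

section Val

variable {x : ℕ} {f : Fin 5 → ℚ} {r : ℚ}

theorem Wv_eq (hf : ∀ c, f c = r * ev x (TabE8a.c1.nu c)) (s : Fin 240) : Wv x f s = r * ev x (W8 s) := by
  rw [Wv, Tab.tau, W8, ev_pAdd]
  split_ifs with h
  · rw [ev_pAdd, ev_pMul, ev_cons, ev_cons, ev_nil, hf, hf]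
    push_cast
    ring
  · rw [ev_cons, hf, hf]
    push_cast
    ring

/-- `W` does not depend on the line -/
theorem Wv_st (hf : ∀ c, f c = r * ev x (TabE8a.c1.nu c)) {i : Fin 8} (hi : i ≠ 6) (s : Fin 240) :
    Wv x f (TabE8a.tab.st i s) = Wv x f s := by
  rw [Wv_eq hf, Wv_eq hf, ev_of_pEq (x : ℚ) (W8_st i hi s)]

theorem k0v_eq (hf : ∀ c, f c = r * ev x (TabE8a.c1.nu c)) (c : Fin 26) : k0v x f c = r * ev x (k8 c) := by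
  rw [k0v, Wv_eq hf, Wv_eq hf, k8, ev_pAdd, ev_cons]
  push_cast
  ring

theorem k0v_ne (hf : ∀ c, f c = r * ev x (TabE8a.c1.nu c)) (hr : r ≠ 0) (hx : 2 ≤ x) : k0v x f 0 ≠ 0 := by
  have hx' : (2 : ℚ) ≤ (x : ℚ) := by exact_mod_cast hx
  rw [k0v_eq hf]
  exact mul_ne_zero hr (ev_nv hx' hpos8)

/-- the eigenvalues of `8` at node `6` -/
theorem kk_k0v (hf : ∀ c, f c = r * ev x (TabE8a.c1.nu c)) (hr : r ≠ 0) (hx : 2 ≤ x) (c : Fin 26) :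
    ev x (TabE8c.data.kk c) * (k0v x f c / k0v x f 0) = ev x (lam8 c) := by
  have hx' : (2 : ℚ) ≤ (x : ℚ) := by exact_mod_cast hx
  have h1 := ev_of_pEq (x : ℚ) (hk8 c)
  rw [ev_pMul, ev_pMul] at h1
  have h2 := ev_nv hx' hpos8
  rw [k0v_eq hf, k0v_eq hf, mul_div_mul_left _ _ hr, ← mul_div_assoc, div_eq_iff h2]
  exact h1

/-- **The congruences modulo `Φ₁₀`.** -/
theorem cong (hf : ∀ c, f c = r * ev x (TabE8a.c1.nu c)) (hr : r ≠ 0) (hx : 2 ≤ x) {p : ℕ} (hp : p.Prime)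
    (hd : (p : ℤ) ∣ evZ x [1, -1, 1, -1, 1]) {a : Fin 26 → ℚ}
    (ha : ∀ c, ev x (TabE8c.data.kk c) * a c = ev x (lam c)) (c : Fin 26) :
    ∃ u v : ℤ, ¬ (p : ℤ) ∣ v ∧ v * (ev x (TabE8c.data.kk c) * (k0v x f c / k0v x f 0 - a c)) = p * u := by
  obtain ⟨w, hw⟩ := hd
  refine ⟨w * evZ x (rr8 c), 1, ?_, ?_⟩
  · intro h4
    have h6 := Int.le_of_dvd one_pos h4
    have h7 := hp.two_le
    omega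
  · have e2 := evZ_cast x (rr8 c)
    have e3 := evZ_cast x [1, -1, 1, -1, 1]
    push_cast at e2 e3
    rw [hw] at e3
    push_cast at e3
    have h1 := ev_of_pEq (x : ℚ) (hcong8 c)
    rw [ev_pAdd, ev_pMul, ← e3, ← e2] at h1
    rw [mul_sub, kk_k0v hf hr hx, ha c, h1]
    push_cast
    ring

end Val

/-! ### The link -/

section Link

variable {W : Type*} {Y : Type u} [Group W] [Finite W] [Group Y] [Finite Y]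
    {M : CoxeterMatrix (Fin 8)} {cs : CoxeterSystem M W} {h : IsCartan M TabE8c.A} {p : ℕ} {T : Subgroup Y}
    {n : Fin 8 → Y} {X : (Fin 8 → ℤ) → Subgroup Y}

/-- the kernel `K₀` -/
theorem exists_kernel0 (R : RGD cs h p T n X) (hG : GG cs h T X = ⊤) {x : ℕ}
    (hq : ∀ i, Nat.card (X (sr i)) = x) {χ : Y → ℂ} {d : ℕ} {a : Fin 5 → ℚ} (H : HasVal R hG tabP χ d a)
    (hW : ∀ i, i ≠ 6 → ∀ s, Wv x a (TabE8a.tab.st i s) = Wv x a s) :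
    ∃ K : Y → ℚ, Iso χ K ∧ ∀ g, K g = k0v x a (TabE8c.data.t.cls (stY R hG TabE8c.data.t g)) := by
  have hχ := hasVal_real R hG tabP H
  obtain ⟨K, k, h1, h2, h3⟩ := iso_line R hG TabE8c.data.t tabP (fun _ => x) hq comm67 hχ
    (Iso.of_hasVal R hG tabP H) (fun g => rfl) (fun i hi s => hW i hi s)
  have hk : k = k0v x a := by
    funext c
    have h4 := h3 (wd c)
    have h5 : fo TabE8c.data.t (wd c) = TabE8c.data.t.crep c := hwd c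
    have h6 : fo tabP (wd c).reverse = y0 c := hy0 c
    have h7 : fo tabP (7 :: (wd c).reverse) = y1 c := hy1 c
    have h8 : TabE8c.data.t.cls (TabE8c.data.t.crep c) = c := hcls c
    have h9 : ¬ TabE8c.data.t.vec (TabE8c.data.t.crep c) 7 < 0 := hvec c
    rw [h5, h6, h7, h8, if_neg h9] at h4
    exact h4
  rw [hk] at h2
  exact ⟨K, h1, h2⟩

/-- **The link, general form, with the kernel `K₀`.** -/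
theorem same_gen0 (R : RGD cs h p T n X) (hG : GG cs h T X = ⊤) {x : ℕ}
    (hq : ∀ i, Nat.card (X (sr i)) = x) {χ χ' : Y → ℂ} {d d' : ℕ} {a : Fin 5 → ℚ} {a' : Fin 26 → ℚ}
    (H : HasVal R hG tabP χ d a)
    (hW : ∀ i, i ≠ 6 → ∀ s, Wv x a (TabE8a.tab.st i s) = Wv x a s)
    (H' : HasVal R hG TabE8c.data.t χ' d' a') {l : ℕ} {M' : Ideal AlgInt} (hM : IsPModular l M')
    (h0 : k0v x a 0 ≠ 0)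
    (hc : ∀ c, ∃ u v : ℤ, ¬ (l : ℤ) ∣ v ∧
      v * (ev x (TabE8c.data.kk c) * (k0v x a c / k0v x a 0 - a' c)) = l * u) :
    SameBlock M' χ χ' := by
  obtain ⟨K, h1, h2⟩ := exists_kernel0 R hG hq H hW
  refine sameBlock_of_iso R hG TabE8c.data.t (fun i => x ^ TabE8c.data.e i)
    (fun i => by rw [e_eq, pow_one]; exact hq i) (fun s => x ^ TabE8c.data.wl s) (by simp only [TabE8c.data.wo, pow_zero])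
    (fun i s h9 => by
      show x ^ TabE8c.data.wl (TabE8c.data.t.st i s) = x ^ TabE8c.data.e i * x ^ TabE8c.data.wl s
      rw [TabE8c.data.ws i s h9, pow_add]) (fun g y => h1 g y) h2 ?_ H' hM fun c => ?_
  · rw [cls_o]
    exact h0
  · have hK : (∑ s, if TabE8c.data.t.cls s = c then ((x ^ TabE8c.data.wl s : ℕ) : ℚ) else 0) = ev x (TabE8c.data.kk c) := by
      rw [← ChkK.spec (x : ℚ) TabE8c.data.chkK c, Finset.sum_filter]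
      refine Finset.sum_congr rfl fun s _ => ?_
      push_cast
      rfl
    rw [hK, cls_o]
    exact hc c

/-- **`8 ~ 567` modulo `Φ₁₀`.** -/
theorem same_8_567 (R : RGD cs h p T n X) (hG : GG cs h T X = ⊤) {x : ℕ} (hx : 2 ≤ x)
    (hq : ∀ i, Nat.card (X (sr i)) = x) {χ χ' : Y → ℂ} {d d' : ℕ} {a : Fin 5 → ℚ} {a' : Fin 26 → ℚ}
    (H : HasVal R hG tabP χ d a) {r : ℚ} (hr : r ≠ 0) (hf : ∀ c, a c = r * ev x (TabE8a.c1.nu c))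
    (H' : HasVal R hG TabE8c.data.t χ' d' a') (ha : ∀ c, ev x (TabE8c.data.kk c) * a' c = ev x (lam c))
    {l : ℕ} (hl : l.Prime) (hd : (l : ℤ) ∣ evZ x [1, -1, 1, -1, 1]) {M' : Ideal AlgInt} (hM : IsPModular l M') :
    SameBlock M' χ χ' :=
  same_gen0 R hG hq H (fun _ hi s => Wv_st hf hi s) H' hM (k0v_ne hf hr hx) (fun c => cong hf hr hx hl hd ha c)

end Link

end Cfsg.Agent.H594.LB.Link8
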