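import Cfsg.Agent.H594.LB.MuE6A1

/-!
# `E₈`: the multiplicity of `84` in `1_{P_J}`, `J = {1, 2, 3, 4, 6, 7}` (`D₄A₂`): `6` (helper594, S4879)
-/

set_option autoImplicit false
set_option linter.unusedSectionVars false
set_option maxRecDepth 20000

namespace Cfsg.Agent.H594.LB.MuD4A2

open Cfsg Cfsg.Agent.H967.Sph Cfsg.Agent.H64.Dl.Sph Cfsg.Agent.H996.Eight Cfsg.Agent.H996.Eight.Cert Cfsg.Agent.H996.PQ
  Cfsg.Agent.H790.PQ Cfsg.Agent.H594.PQ Cfsg.Agent.H594.LB.LamTab Cfsg.Agent.H594.LB.Mem Cfsg.Agent.H594.LB.Inv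
  Cfsg.Agent.H594.LB.MuE6 Cfsg.Agent.H594.LB.MuE6A1
open Cfsg.Agent.H632.PQ.Fast Cfsg.Agent.H632.LB Cfsg.Agent.H632.LB.Fam
open Cfsg.Agent.H439.CC (mu)
open CoxeterSystem Cfsg.Agent.ChevalleyStructure.CoxeterGeom Cfsg.Agent.Tits.Roots Cfsg.Agent.Tits.Core
  Cfsg.Agent.Nodes.Reps Cfsg.Agent.Nodes.BNOf Cfsg.Agent.Nodes.Bruhat Cfsg.Agent.Nodes.LeviDec
open scoped BigOperators

universe u v

/-- the representatives of the orbits, node `7` -/
def W : ℕ := 0xededede2e2e2e2e2d6e2d6e2d6e2d6d6dbd6badbdbd6bababad6babababababababababababababa99ba99baba9999ba99b4ba9999ba99b4999999b499997a9999997a997a997f7a997a99997a7f7a99997a7a7a587f997a7a7a7a7f7f587a7a7a7a7f5858587a7a7a7f5858587a7a697f585858587a69694c585858583a69694c5858583a3a694c5858583a3a3a4c4c583a3a3a3a4c27583a3a3a3a4c27273a3a3a3a4c2727273a3a3a272727273a3a272727272e3a27272712272e27271227122e27122712121227121212121212121212121212121209101212091012091009090309030909030303030303000000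

/-- the numbers of the classes, node `7` -/
def Y : ℕ := 0x20016005a006a0014

theorem okA : Ok7 ([1, 2, 3, 4, 6, 7], W, Y) := ⟨by decide +kernel, by decide +kernel, by decide +kernel⟩

variable {W' : Type v} {Y' : Type u} [Group W'] [Finite W'] [Group Y'] [Finite Y']
    {M : CoxeterMatrix (Fin 8)} {cs : CoxeterSystem M W'} {h : IsCartan M TabE8c.A} {p : ℕ} {T : Subgroup Y'}
    {n : Fin 8 → Y'} {X : (Fin 8 → ℤ) → Subgroup Y'} (R : RGD cs h p T n X) (hG : GG cs h T X = ⊤)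

variable {x : ℕ} (hx : 2 ≤ x) (hq : ∀ i, Nat.card (X (sr i)) = x) (hF : Fam cs h)

/-- the nodes -/
def KD : Finset (Fin 8) := {1, 2, 3, 4, 6, 7}

theorem hK : ∀ i : Fin 8, i ∈ KD ↔ (i : ℕ) ∈ [1, 2, 3, 4, 6, 7] := by decide

theorem hL : ∀ i ∈ [1, 2, 3, 4, 6, 7], i < 8 := by decide

include hx hq hF in
/-- **`84` at `D₄A₂` : `6`** -/
theorem mu_84 {χ : Y' → ℂ} (H : Is7 R hG x TabE8a.c3 χ) :
    mu (PJ cs h T X ((({1, 2, 3, 4, 6, 7} : Finset (Fin 8)) : Set (Fin 8)))) χ = 6 := by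
  have h1 := mu_gen7 R hG hx hq hF (C := TabE8a.c3) hC3 hU3 TabE8a.dvd3 (by decide +kernel) (by decide +kernel) H
    (KD : Set (Fin 8)) (v := 6) (FJ7 hK hL okA (by decide +kernel))
  rw [show ((({1, 2, 3, 4, 6, 7} : Finset (Fin 8)) : Set (Fin 8))) = (KD : Set (Fin 8)) from rfl]
  exact_mod_cast h1

end Cfsg.Agent.H594.LB.MuD4A2
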