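import Cfsg.Agent.H594.LB.MuE6

/-!
# `E₈`: the multiplicity of `84` in `1_{P_J}`, `J = {6}ᶜ` (`E₆A₁`): `2` (helper594, S4879)

The multiplicities of `567`, `1344` are `1` (`Mu.mu_6`).
-/

set_option autoImplicit false
set_option linter.unusedSectionVars false
set_option maxRecDepth 20000

namespace Cfsg.Agent.H594.LB.MuE6A1

open Cfsg Cfsg.Agent.H967.Sph Cfsg.Agent.H64.Dl.Sph Cfsg.Agent.H996.Eight Cfsg.Agent.H996.Eight.Cert Cfsg.Agent.H996.PQ
  Cfsg.Agent.H790.PQ Cfsg.Agent.H594.PQ Cfsg.Agent.H594.LB.LamTab Cfsg.Agent.H594.LB.Mem Cfsg.Agent.H594.LB.Inv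
  Cfsg.Agent.H594.LB.MuE6
open Cfsg.Agent.H632.PQ.Fast Cfsg.Agent.H632.LB Cfsg.Agent.H632.LB.Fam
open Cfsg.Agent.H439.CC (mu)
open CoxeterSystem Cfsg.Agent.ChevalleyStructure.CoxeterGeom Cfsg.Agent.Tits.Roots Cfsg.Agent.Tits.Core
  Cfsg.Agent.Nodes.Reps Cfsg.Agent.Nodes.BNOf Cfsg.Agent.Nodes.Bruhat Cfsg.Agent.Nodes.LeviDec
open scoped BigOperators

universe u v

/-- the representatives of the orbits, node `7` -/
def W : ℕ := 0xeeeebebebebebebebebebebebebebebebebebe7979bebe7979bebe7979bebe7979be79797979be79797979be7979337979be79793379797979793379797979793333797979793333337979797933333379797979333333337979793333333333797933333333337979333333333379793333333333337970333333333333137033333333331313333333333313133333333333131333333333131313333313331313133333131333131333331313131333131313131333131313131333131313130213131313021313131302131313021313020213130202131302021302020202020202020202020202020202020000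

/-- the numbers of the classes, node `7` -/
def Y : ℕ := 0x20028006600580008

theorem okA : Ok7 ([0, 1, 2, 3, 4, 5, 7], W, Y) := ⟨by decide +kernel, by decide +kernel, by decide +kernel⟩

variable {W' : Type v} {Y' : Type u} [Group W'] [Finite W'] [Group Y'] [Finite Y']
    {M : CoxeterMatrix (Fin 8)} {cs : CoxeterSystem M W'} {h : IsCartan M TabE8c.A} {p : ℕ} {T : Subgroup Y'}
    {n : Fin 8 → Y'} {X : (Fin 8 → ℤ) → Subgroup Y'} (R : RGD cs h p T n X) (hG : GG cs h T X = ⊤)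

variable {x : ℕ} (hx : 2 ≤ x) (hq : ∀ i, Nat.card (X (sr i)) = x) (hF : Fam cs h)

/-- the nodes of `E₆A₁` -/
def K61 : Finset (Fin 8) := {0, 1, 2, 3, 4, 5, 7}

theorem K61_eq : (K61 : Set (Fin 8)) = {i | i ≠ 6} := by
  ext i
  rw [Finset.mem_coe, Set.mem_setOf_eq]
  revert i
  decide

theorem hK : ∀ i : Fin 8, i ∈ K61 ↔ (i : ℕ) ∈ [0, 1, 2, 3, 4, 5, 7] := by decide

theorem hL : ∀ i ∈ [0, 1, 2, 3, 4, 5, 7], i < 8 := by decide

theorem hC3 : ok1 TabE8a.c3 0 dataP.bb dataP.kk := by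
  have h := ok1_of_ok TabE8a.ok3
  rwa [show TabE8a.data.t.cls TabE8a.data.t.o = 0 from clsP] at h

theorem hU3 : Uq TabE8a.c3.th TabE8a.c3.nu 0 dataP.bb := by
  have h := uq_of_ok TabE8a.ok3
  rwa [show TabE8a.data.t.cls TabE8a.data.t.o = 0 from clsP] at h

include hx hq hF in
/-- **`84` at `E₆A₁` : `2`** -/
theorem mu_84 {χ : Y' → ℂ} (H : Is7 R hG x TabE8a.c3 χ) : mu (PJ cs h T X {i | i ≠ 6}) χ = 2 := by
  have h1 := mu_gen7 R hG hx hq hF (C := TabE8a.c3) hC3 hU3 TabE8a.dvd3 (by decide +kernel) (by decide +kernel) H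
    (K61 : Set (Fin 8)) (v := 2) (FJ7 hK hL okA (by decide +kernel))
  rw [K61_eq] at h1
  exact_mod_cast h1

end Cfsg.Agent.H594.LB.MuE6A1
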